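/-
The number of distinct constituents of a permutation character as the rank of the Casimir map of the orbital
algebra.
-/
import Cfsg.Agent.Lib.Char.PermChar
import Cfsg.Agent.Lib.Char.ClassSum
import Cfsg.Agent.Lib.Char.RealChar
import Cfsg.Agent.Lib.CharInt.PermHecke

set_option autoImplicit false
set_option linter.unusedSectionVars false

namespace Cfsg.Agent.HeckeRank

open scoped ComplexConjugate Matrix
open Cfsg Char

universe u v

variable {G : Type u} [Group G] [Fintype G] {X : Type v} [Fintype X] [DecidableEq X] [MulAction G X]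
  {W : Type*} [Fintype W] [DecidableEq W] [One W]

/-- A permutation matrix. -/
noncomputable def permM (g : G) : Matrix X X ℂ := Matrix.of fun u v => if g • v = u then 1 else 0

omit [Fintype G] in
theorem permM_apply (g : G) (u v : X) : permM g u v = if g • v = u then 1 else 0 := rfl

omit [Fintype G] in
theorem permM_mul (g h : G) : permM (g * h) = (permM g * permM h : Matrix X X ℂ) := by
  ext u v
  simp [Matrix.mul_apply, permM_apply, mul_smul]

omit [Fintype G] in
theorem trace_permM (g : G) :
    Matrix.trace (permM g : Matrix X X ℂ) = (Nat.card (MulAction.fixedBy X g) : ℂ) := by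
  classical
  simp only [Matrix.trace, Matrix.diag_apply, permM_apply]
  rw [Finset.sum_boole, Nat.card_eq_fintype_card, Fintype.card_subtype]
  simp [MulAction.mem_fixedBy]

/-- The permutation character. -/
noncomputable def pchar (g : G) : ℂ := (Nat.card (MulAction.fixedBy X g) : ℂ)

/-- The image of a function in the permutation representation. -/
noncomputable def opM (f : G → ℂ) : Matrix X X ℂ := ∑ g, f g • permM g

theorem trace_opM (f : G → ℂ) :
    Matrix.trace (opM f : Matrix X X ℂ) = ∑ g, f g * pchar (X := X) g := by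
  simp [opM, Matrix.trace_sum, Matrix.trace_smul, trace_permM, pchar]

theorem opM_mul (f h : G → ℂ) :
    (opM f * opM h : Matrix X X ℂ) = opM (fun x => ∑ y, f y * h (y⁻¹ * x)) := by
  simp only [opM]
  simp only [Finset.sum_smul]
  rw [Finset.sum_mul, Finset.sum_comm]
  refine Finset.sum_congr rfl fun y _ => ?_
  rw [Finset.mul_sum]
  refine Fintype.sum_equiv (Equiv.mulLeft y) _ _ fun z => ?_
  simp [smul_smul, permM_mul, mul_comm (h z)]

theorem opM_smul (c : ℂ) (f : G → ℂ) : (opM (c • f) : Matrix X X ℂ) = c • opM f := by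
  simp [opM, Finset.smul_sum, smul_smul]

theorem opM_sum {ι : Type*} (s : Finset ι) (f : ι → G → ℂ) :
    (opM (∑ i ∈ s, f i) : Matrix X X ℂ) = ∑ i ∈ s, opM (f i) := by
  simp only [opM, Finset.sum_apply, Finset.sum_smul]
  exact Finset.sum_comm

/-- The idempotent of an irreducible character. -/
noncomputable def idem (χ : IrrCharacter G) : Matrix X X ℂ :=
  (χ.1 1 / (Nat.card G : ℂ)) • opM (fun g => conj (χ.1 g))

theorem conv_conj_self (χ : IrrCharacter G) (x : G) :
    ∑ y, conj (χ.1 y) * conj (χ.1 (y⁻¹ * x)) = (Nat.card G : ℂ) / χ.1 1 * conj (χ.1 x) := by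
  have h := congrArg conj (sum_irr_mul_conj_conj χ.2 x)
  obtain ⟨n, hn⟩ := IsCharacter.apply_one (irr_isCharacter χ)
  simp only [map_mul, map_sum, Complex.conj_conj, map_natCast, hn] at h
  rw [hn, div_mul_eq_mul_div, eq_div_iff (hn ▸ IsIrrCharacter.apply_one_ne_zero χ.2), ← h, mul_comm]
  congr 1
  refine Fintype.sum_equiv (Equiv.inv G) _ _ fun y => ?_
  simp [IsCharacter.conj_apply (irr_isCharacter χ)]

theorem conv_conj_ne {χ ψ : IrrCharacter G} (hne : χ ≠ ψ) (x : G) :
    ∑ y, conj (χ.1 y) * conj (ψ.1 (y⁻¹ * x)) = 0 := by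
  have h := congrArg conj (sum_irr_conj_mul_of_ne ψ.2 χ.2 (fun e => hne (Subtype.ext e.symm)) x)
  simp only [map_mul, map_sum, Complex.conj_conj, map_zero] at h
  rw [← h]
  refine Fintype.sum_equiv (Equiv.inv G) _ _ fun y => ?_
  simp [IsCharacter.conj_apply (irr_isCharacter χ)]

theorem idem_mul_self (χ : IrrCharacter G) : (idem χ * idem χ : Matrix X X ℂ) = idem χ := by
  have h1 := IsIrrCharacter.apply_one_ne_zero χ.2
  have hG : (Nat.card G : ℂ) ≠ 0 := card_ne_zero
  rw [idem, smul_mul_smul_comm, opM_mul]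
  simp only [conv_conj_self]
  rw [show (fun x => (Nat.card G : ℂ) / χ.1 1 * conj (χ.1 x)) =
    ((Nat.card G : ℂ) / χ.1 1) • fun x => conj (χ.1 x) from rfl, opM_smul, smul_smul]
  congr 1
  field_simp

theorem idem_mul_ne {χ ψ : IrrCharacter G} (hne : χ ≠ ψ) : (idem χ * idem ψ : Matrix X X ℂ) = 0 := by
  rw [idem, idem, smul_mul_smul_comm, opM_mul]
  simp [conv_conj_ne hne, opM]

theorem trace_idem (χ : IrrCharacter G) :
    Matrix.trace (idem χ : Matrix X X ℂ) = χ.1 1 * classInner (pchar (G := G) (X := X)) χ.1 := by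
  rw [idem, Matrix.trace_smul, trace_opM, classInner, smul_eq_mul, div_eq_mul_inv, mul_assoc]
  congr 1
  congr 1
  exact Finset.sum_congr rfl fun g _ => mul_comm _ _

theorem idem_eq_zero_iff (χ : IrrCharacter G) :
    (idem χ : Matrix X X ℂ) = 0 ↔ classInner (pchar (G := G) (X := X)) χ.1 = 0 := by
  constructor
  · intro h
    have := trace_idem (X := X) χ
    rw [h, Matrix.trace_zero, eq_comm, mul_eq_zero] at this
    exact this.resolve_left (IsIrrCharacter.apply_one_ne_zero χ.2)
  · intro h
    have hP : (Matrix.toLinAlgEquiv' (idem χ : Matrix X X ℂ)) * Matrix.toLinAlgEquiv' (idem χ) =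
        Matrix.toLinAlgEquiv' (idem χ) := by rw [← map_mul, idem_mul_self]
    have h2 := CharInt.PermHecke.eq_zero_of_trace_zero hP (by
      rw [show Matrix.toLinAlgEquiv' (idem χ : Matrix X X ℂ) = Matrix.toLin' (idem χ) from rfl,
        Matrix.trace_toLin'_eq, trace_idem, h, mul_zero])
    exact Matrix.toLinAlgEquiv'.injective (h2.trans (map_zero _).symm)

variable (rel : X → X → W)

/-- The matrix with entries prescribed on each orbital. -/
def matL : (W → ℂ) →ₗ[ℂ] Matrix X X ℂ where
  toFun a := Matrix.of fun u v => a (rel u v)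
  map_add' a b := by ext; rfl
  map_smul' c a := by ext; rfl

theorem matL_apply (a : W → ℂ) (u v : X) : matL rel a u v = a (rel u v) := rfl

/-- The orbital matrix. -/
noncomputable def orbM (w : W) : Matrix X X ℂ := matL rel (Pi.single w 1)

omit [One W] in
theorem orbM_apply (w : W) (u v : X) : orbM rel w u v = if rel u v = w then 1 else 0 := by
  simp [orbM, matL_apply, Pi.single_apply]

/-- An orbital structure: `rel` separates exactly the orbits on pairs, with valencies `k`. -/
structure Orbital (k : W → ℕ) : Prop where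
  inv : ∀ (g : G) (u v : X), rel (g • u) (g • v) = rel u v
  sep : ∀ u v u' v', rel u v = rel u' v' → ∃ g : G, g • u = u' ∧ g • v = v'
  card : ∀ u w, Nat.card {v : X // rel u v = w} = k w
  pos : ∀ w, 0 < k w
  diag : ∀ u v, rel u v = 1 ↔ u = v
  ne : Nonempty X

variable {rel} {k : W → ℕ} (hO : Orbital (G := G) rel k)
include hO

theorem card_transporter (u v a b : X) :
    (Nat.card {g : G // g • v = u ∧ g • b = a} : ℂ) =
      if rel u a = rel v b then (Nat.card G : ℂ) / ((Nat.card X : ℂ) * k (rel v b)) else 0 := by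
  classical
  split_ifs with h
  · obtain ⟨g0, h1, h2⟩ := hO.sep v b u a h.symm
    have hst : Nat.card {g : G // g • v = u ∧ g • b = a} = Nat.card (MulAction.stabilizer G (v, b)) := by
      refine Nat.card_congr ((Equiv.mulLeft g0⁻¹).subtypeEquiv fun g => ?_)
      simp only [MulAction.mem_stabilizer_iff, Prod.smul_mk, Prod.mk.injEq, Equiv.coe_mulLeft, mul_smul,
        inv_smul_eq_iff, h1, h2]
    have horb : Nat.card (MulAction.orbit G (v, b)) = Nat.card X * k (rel v b) := by
      have e : MulAction.orbit G (v, b) = {p : X × X | rel p.1 p.2 = rel v b} := by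
        ext p
        constructor
        · rintro ⟨g, rfl⟩
          exact hO.inv g v b
        · intro hp
          obtain ⟨g, hg1, hg2⟩ := hO.sep v b p.1 p.2 (Eq.symm hp)
          exact ⟨g, Prod.ext hg1 hg2⟩
      rw [e]
      calc Nat.card {p : X × X // rel p.1 p.2 = rel v b}
          = Nat.card (Σ x : X, {y : X // rel x y = rel v b}) :=
            Nat.card_congr
              { toFun := fun p => ⟨p.1.1, p.1.2, p.2⟩
                invFun := fun p => ⟨(p.1, p.2.1), p.2.2⟩
                left_inv := fun _ => rfl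
                right_inv := fun _ => rfl }
        _ = _ := by
          rw [Nat.card_sigma, Finset.sum_congr rfl fun x _ => hO.card x _, Finset.sum_const,
            Finset.card_univ, smul_eq_mul, Nat.card_eq_fintype_card]
    have hmul := MulAction.card_orbit_mul_card_stabilizer_eq_card_group G (v, b)
    simp only [← Nat.card_eq_fintype_card] at hmul
    haveI := hO.ne
    have hk : ((Nat.card X : ℂ) * k (rel v b)) ≠ 0 := by
      have := hO.pos (rel v b)
      exact mul_ne_zero (Nat.cast_ne_zero.2 Nat.card_pos.ne') (Nat.cast_ne_zero.2 (by omega))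
    rw [hst, eq_div_iff hk, ← hmul, horb]
    push_cast
    ring
  · haveI : IsEmpty {g : G // g • v = u ∧ g • b = a} :=
      ⟨fun ⟨g, h1, h2⟩ => h (by rw [← h1, ← h2]; exact hO.inv g v b)⟩
    simp

/-- The Casimir map. -/
noncomputable def casL (k : W → ℕ) (rel : X → X → W) : (W → ℂ) →ₗ[ℂ] Matrix X X ℂ :=
  ∑ w, (k w : ℂ)⁻¹ • (LinearMap.mulRight ℂ (orbM rel w)ᵀ ∘ₗ LinearMap.mulLeft ℂ (orbM rel w) ∘ₗ matL rel)

omit hO [Fintype G] [MulAction G X] [One W] in
theorem casL_apply (a : W → ℂ) :
    casL k rel a = ∑ w, (k w : ℂ)⁻¹ • (orbM rel w * matL rel a * (orbM rel w)ᵀ) := by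
  simp [casL, LinearMap.sum_apply]

omit hO in
/-- The class function attached to an orbital matrix. -/
noncomputable def trFun (M : Matrix X X ℂ) (g : G) : ℂ := ∑ x, M (g • x) x

omit [Fintype G] in
theorem isClassFunction_trFun (a : W → ℂ) : IsClassFunction G (trFun (matL rel a) : G → ℂ) := by
  intro g h
  refine Fintype.sum_equiv (MulAction.toPerm h⁻¹) _ _ fun x => ?_
  simp only [MulAction.toPerm_apply, matL_apply]
  rw [← hO.inv h⁻¹]
  simp [mul_smul]

theorem casL_eq (a : W → ℂ) :
    casL k rel a = ((Nat.card X : ℂ) / Nat.card G) • opM (G := G) (trFun (matL rel a)) := by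
  classical
  ext u v
  have hG : (Nat.card G : ℂ) ≠ 0 := card_ne_zero
  haveI := hO.ne
  have hX : (Nat.card X : ℂ) ≠ 0 := Nat.cast_ne_zero.2 Nat.card_pos.ne'
  have hL : opM (G := G) (trFun (matL rel a)) u v =
      ∑ b, ∑ a', (Nat.card {g : G // g • v = u ∧ g • b = a'} : ℂ) * matL rel a a' b := by
    simp only [opM, Matrix.sum_apply, Matrix.smul_apply, permM_apply, smul_eq_mul, trFun, Finset.sum_mul]
    rw [Finset.sum_comm]
    refine Finset.sum_congr rfl fun b _ => ?_
    rw [← Finset.sum_fiberwise Finset.univ (fun g : G => g • b) fun g =>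
      matL rel a (g • b) b * if g • v = u then 1 else 0]
    refine Finset.sum_congr rfl fun a' _ => ?_
    rw [Nat.card_eq_fintype_card, Fintype.card_subtype, ← Finset.sum_boole, Finset.sum_mul,
      Finset.sum_filter]
    refine Finset.sum_congr rfl fun g _ => ?_
    by_cases h1 : g • b = a' <;> by_cases h2 : g • v = u <;> simp [h1, h2]
  rw [Matrix.smul_apply, hL, casL_apply, Matrix.sum_apply, Finset.smul_sum]
  simp only [card_transporter hO, Matrix.smul_apply, Matrix.mul_apply, Matrix.transpose_apply, orbM_apply,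
    smul_eq_mul, Finset.sum_mul, Finset.mul_sum]
  rw [Finset.sum_comm]
  refine Finset.sum_congr rfl fun b _ => ?_
  rw [Finset.sum_comm]
  refine Finset.sum_congr rfl fun a' _ => ?_
  rw [Finset.sum_eq_single (rel v b) (fun w _ hw => by simp [Ne.symm hw]) (by simp)]
  have hk : (k (rel v b) : ℂ) ≠ 0 := Nat.cast_ne_zero.2 (hO.pos _).ne'
  by_cases h : rel u a' = rel v b
  · simp only [h, if_true]
    field_simp
  · simp [h]

theorem exists_coeff (M : Matrix X X ℂ) (hM : ∀ (g : G) u v, M (g • u) (g • v) = M u v) :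
    ∃ a, matL rel a = M := by
  classical
  obtain ⟨o⟩ := hO.ne
  have hsurj : ∀ w, ∃ v, rel o v = w := fun w => by
    have := hO.pos w
    rw [← hO.card o w] at this
    obtain ⟨⟨v, hv⟩⟩ := (Nat.card_pos_iff.1 this).1
    exact ⟨v, hv⟩
  choose s hs using hsurj
  refine ⟨fun w => M o (s w), ?_⟩
  ext u v
  obtain ⟨g, h1, h2⟩ := hO.sep o (s (rel u v)) u v (hs _)
  show M o (s (rel u v)) = M u v
  rw [← hM g, h1, h2]

omit [Fintype G] in
theorem permM_comm (g : G) (a : W → ℂ) : permM g * matL rel a = matL rel a * permM g := by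
  ext u v
  simp only [Matrix.mul_apply, permM_apply, matL_apply, ite_mul,
    mul_ite, one_mul, mul_one, zero_mul, mul_zero]
  rw [Finset.sum_eq_single (g⁻¹ • u) (fun y _ hy => if_neg fun e => hy (eq_inv_smul_iff.2 e)) (by simp),
    Finset.sum_eq_single (g • v) (fun y _ hy => if_neg (Ne.symm hy)) (by simp), if_pos (smul_inv_smul g u),
    if_pos rfl, ← hO.inv g, smul_inv_smul]

theorem opM_comm (f : G → ℂ) (a : W → ℂ) : opM f * matL rel a = matL rel a * opM f := by
  simp only [opM, Finset.sum_mul, Finset.mul_sum, smul_mul_assoc, mul_smul_comm, permM_comm hO]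

omit hO in
theorem opM_invariant {f : G → ℂ} (hf : IsClassFunction G f) (g : G) (u v : X) :
    opM f (g • u) (g • v) = opM f u v := by
  simp only [opM, Matrix.sum_apply, Matrix.smul_apply, permM_apply, smul_eq_mul]
  refine (Fintype.sum_equiv (MulAut.conj g).toEquiv _ _ fun h => ?_).symm
  show f h * _ = f (g * h * g⁻¹) * _
  rw [hf]
  simp [mul_smul]

/-- **The rank of the Casimir map is the number of constituents.** -/
theorem finrank_casL :
    Module.finrank ℂ (LinearMap.range (casL k rel)) =
      Nat.card {χ : IrrCharacter G // classInner (pchar (G := G) (X := X)) χ.1 ≠ 0} := by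
  classical
  let S := {χ : IrrCharacter G // classInner (pchar (G := G) (X := X)) χ.1 ≠ 0}
  let b : S → Matrix X X ℂ := fun χ => idem χ.1
  have hb : LinearIndependent ℂ b := by
    rw [Fintype.linearIndependent_iff]
    intro c hc χ
    have h := congrArg (fun M => M * idem χ.1) hc
    simp only [zero_mul, Finset.sum_mul, smul_mul_assoc] at h
    rw [Finset.sum_eq_single χ (fun ψ _ hψ => by
      simp [b, idem_mul_ne (fun e => hψ (Subtype.ext e))]) (by simp)] at h
    simp only [b, idem_mul_self, smul_eq_zero] at h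
    exact h.resolve_right fun e => χ.2 ((idem_eq_zero_iff χ.1).1 e)
  have hG : (Nat.card G : ℂ) ≠ 0 := card_ne_zero
  haveI := hO.ne
  have hX : (Nat.card X : ℂ) ≠ 0 := Nat.cast_ne_zero.2 Nat.card_pos.ne'
  have hopconj : ∀ χ : IrrCharacter G, (opM (fun g => conj (χ.1 g)) : Matrix X X ℂ) =
      ((Nat.card G : ℂ) / χ.1 1) • idem χ := fun χ => by
    rw [idem, smul_smul]
    have := IsIrrCharacter.apply_one_ne_zero χ.2
    rw [show (Nat.card G : ℂ) / χ.1 1 * (χ.1 1 / (Nat.card G : ℂ)) = 1 by field_simp, one_smul]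
  have hle : LinearMap.range (casL k rel) ≤ Submodule.span ℂ (Set.range b) := by
    rintro _ ⟨a, rfl⟩
    rw [casL_eq hO, eq_sum_classInner_smul (isClassFunction_trFun hO a), opM_sum]
    refine Submodule.smul_mem _ _ (Submodule.sum_mem _ fun χ _ => ?_)
    rw [opM_smul]
    refine Submodule.smul_mem _ _ ?_
    have h1 : (χ.1 : G → ℂ) = fun g => conj ((conjIrr χ).1 g) := by funext g; simp [conjIrr_apply]
    rw [h1, hopconj]
    refine Submodule.smul_mem _ _ ?_
    by_cases h : classInner (pchar (G := G) (X := X)) (conjIrr χ).1 = 0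
    · rw [(idem_eq_zero_iff _).2 h]; exact zero_mem _
    · exact Submodule.subset_span ⟨⟨_, h⟩, rfl⟩
  have hge : Submodule.span ℂ (Set.range b) ≤ LinearMap.range (casL k rel) := by
    rw [Submodule.span_le]
    rintro _ ⟨⟨χ, hχ⟩, rfl⟩
    have hcl : IsClassFunction G (fun g => conj (χ.1 g)) := fun g h =>
      congrArg conj (IsCharacter.isClassFunction (irr_isCharacter χ) g h)
    obtain ⟨a, ha⟩ := exists_coeff hO (idem χ : Matrix X X ℂ) (fun g u v => by
      simp [idem, opM_invariant (X := X) hcl g u v])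
    have hcomm : ∀ w, orbM rel w * (idem χ : Matrix X X ℂ) = idem χ * orbM rel w := fun w => by
      simp only [idem, mul_smul_comm, smul_mul_assoc, orbM, opM_comm hO]
    have h1 : matL rel (Pi.single 1 1) = (1 : Matrix X X ℂ) := by
      ext u v
      rw [show matL rel (Pi.single 1 1) = orbM rel (1 : W) from rfl, orbM_apply, Matrix.one_apply]
      simp [hO.diag]
    have hK : casL k rel a = idem χ * casL k rel (Pi.single 1 1) := by
      simp only [casL_apply, ha, h1, mul_one, Finset.mul_sum, mul_smul_comm]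
      refine Finset.sum_congr rfl fun w _ => ?_
      rw [hcomm, mul_assoc]
    obtain ⟨m, hm1, hm2⟩ := IsCharacter.exists_decomp
      (show IsCharacter G (pchar (G := G) (X := X)) from isCharacter_fixedBy X)
    have hP : trFun (G := G) (matL rel (Pi.single 1 1)) =
        ∑ ψ : IrrCharacter G, (m ψ : ℂ) • fun g => conj (ψ.1 g) := by
      funext g
      have h2 : trFun (G := G) (matL rel (Pi.single 1 1)) g = pchar (X := X) g := by
        rw [h1, trFun, pchar, Nat.card_eq_fintype_card, Fintype.card_subtype, ← Finset.sum_boole]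
        simp [Matrix.one_apply, MulAction.mem_fixedBy]
      rw [h2]
      calc pchar (X := X) g = conj (pchar (X := X) g) := by simp [pchar]
        _ = _ := by
          rw [congrFun hm1 g]
          simp [Finset.sum_apply]
    have hval : casL k rel a = ((Nat.card X : ℂ) * m χ / χ.1 1) • idem χ := by
      rw [hK, casL_eq hO, hP, opM_sum, mul_smul_comm, Finset.mul_sum]
      rw [Finset.sum_eq_single χ (fun ψ _ hψ => by
        rw [opM_smul, hopconj, mul_smul_comm, mul_smul_comm, idem_mul_ne (Ne.symm hψ)]; simp) (by simp)]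
      rw [opM_smul, hopconj, mul_smul_comm, mul_smul_comm, idem_mul_self, smul_smul, smul_smul]
      congr 1
      field_simp
    have hm : ((Nat.card X : ℂ) * m χ / χ.1 1) ≠ 0 :=
      div_ne_zero (mul_ne_zero hX (hm2 χ ▸ hχ)) (IsIrrCharacter.apply_one_ne_zero χ.2)
    exact ⟨((Nat.card X : ℂ) * m χ / χ.1 1)⁻¹ • a, by rw [map_smul, hval, smul_smul, inv_mul_cancel₀ hm, one_smul]⟩
  rw [le_antisymm hle hge, finrank_span_eq_card hb, Nat.card_eq_fintype_card]

end Cfsg.Agent.HeckeRank
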