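/-
The one-parameter family of Hecke algebras of a finite group with chosen reduced words: polynomial structure
constants, transfer of identities from infinitely many parameters, and constancy of the rank of the Casimir map
for positive parameters.
-/
import Mathlib

set_option autoImplicit false
set_option linter.unusedSectionVars false

namespace Cfsg.Agent.HeckeRank

open scoped ComplexConjugate

/-- Generators, length and chosen words. -/
structure WordData (W : Type*) [Group W] (ι : Type*) where
  s : ι → W
  len : W → ℕ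
  word : W → List ι
  prod_word : ∀ w, ((word w).map s).prod = w
  length_word : ∀ w, (word w).length = len w
  len_one : len 1 = 0
  len_inv : ∀ w, len w⁻¹ = len w
  len_step : ∀ i w, len (s i * w) ≤ len w + 1
  sq : ∀ i, s i * s i = 1
  len_ne : ∀ i w, len (s i * w) ≠ len w

namespace WordData

variable {W : Type*} [Group W] [Fintype W] [DecidableEq W] {ι : Type*} (S : WordData W ι)
  {R : Type*} [CommRing R] {R' : Type*} [CommRing R']

/-- Left multiplication by a generator. -/
def step (t : R) (i : ι) : (W → R) →ₗ[R] (W → R) where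
  toFun f x := if S.len (S.s i * x) < S.len x then f (S.s i * x) + (t - 1) * f x else t * f (S.s i * x)
  map_add' f g := by ext x; simp only [Pi.add_apply]; split_ifs <;> ring
  map_smul' c f := by ext x; simp only [Pi.smul_apply, smul_eq_mul, RingHom.id_apply]; split_ifs <;> ring

/-- Left multiplication by the product of a list of generators. -/
def act (t : R) (l : List ι) : (W → R) →ₗ[R] (W → R) := (l.map (S.step t)).prod

/-- The structure constants. -/
def coef (t : R) (u v : W) : W → R := S.act t (S.word u) (Pi.single v 1)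

/-- The product. -/
def mulL (t : R) : (W → R) →ₗ[R] (W → R) →ₗ[R] (W → R) :=
  LinearMap.mk₂ R (fun a b => ∑ u, ∑ v, (a u * b v) • S.coef t u v)
    (fun a a' b => by simp [add_mul, add_smul, Finset.sum_add_distrib])
    (fun c a b => by simp [Finset.smul_sum, smul_smul, mul_assoc])
    (fun a b b' => by simp [mul_add, add_smul, Finset.sum_add_distrib])
    (fun c a b => by simp [Finset.smul_sum, smul_smul, mul_left_comm])

/-- An exponent bounding all lengths. -/
def top : ℕ := ∑ w, S.len w

/-- The Casimir map, cleared of denominators. -/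
def cas (t : R) : (W → R) →ₗ[R] (W → R) :=
  ∑ v, t ^ (S.top - S.len v) • ((S.mulL t).flip (Pi.single v⁻¹ 1) ∘ₗ S.mulL t (Pi.single v 1))

theorem mulL_apply (t : R) (a b : W → R) : S.mulL t a b = ∑ u, ∑ v, (a u * b v) • S.coef t u v := rfl

theorem mulL_single (t : R) (u v : W) : S.mulL t (Pi.single u 1) (Pi.single v 1) = S.coef t u v := by
  rw [mulL_apply, Finset.sum_eq_single u, Finset.sum_eq_single v] <;> simp +contextual

theorem cas_apply (t : R) (a : W → R) :
    S.cas t a = ∑ v, t ^ (S.top - S.len v) • S.mulL t (S.mulL t (Pi.single v 1) a) (Pi.single v⁻¹ 1) := by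
  simp [cas, LinearMap.sum_apply]

/-- The identities needed. -/
structure Good (t : R) : Prop where
  assoc : ∀ u v w, S.mulL t (S.coef t u v) (Pi.single w 1) = S.mulL t (Pi.single u 1) (S.coef t v w)
  one_left : ∀ v, S.coef t 1 v = Pi.single v 1
  one_right : ∀ v, S.coef t v 1 = Pi.single v 1
  trace : ∀ u v, S.coef t u v 1 = if u * v = 1 then t ^ S.len u else 0
  anti : ∀ u v x, S.coef t v⁻¹ u⁻¹ x⁻¹ = S.coef t u v x
  central : ∀ a y, S.mulL t (S.cas t (Pi.single a 1)) (Pi.single y 1) =
    S.mulL t (Pi.single y 1) (S.cas t (Pi.single a 1))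

/-! ### Naturality -/

section map

variable (φ : R →+* R')

omit [Fintype W] in
theorem single_map (v : W) : φ ∘ (Pi.single v (1 : R)) = (Pi.single v 1 : W → R') := by
  funext x
  simp [Pi.single_apply, apply_ite φ]

theorem step_map (t : R) (i : ι) (f : W → R) : φ ∘ S.step t i f = S.step (φ t) i (φ ∘ f) := by
  funext x
  simp [step, apply_ite φ]

theorem act_map (t : R) (l : List ι) (f : W → R) : φ ∘ S.act t l f = S.act (φ t) l (φ ∘ f) := by
  induction l with
  | nil => rfl
  | cons i l ih =>
    show φ ∘ S.step t i (S.act t l f) = S.step (φ t) i (S.act (φ t) l (φ ∘ f))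
    rw [step_map, ih]

theorem coef_map (t : R) (u v : W) : φ ∘ S.coef t u v = S.coef (φ t) u v := by
  rw [coef, act_map, single_map]; rfl

theorem mulL_map (t : R) (a b : W → R) : φ ∘ S.mulL t a b = S.mulL (φ t) (φ ∘ a) (φ ∘ b) := by
  funext x
  simp [mulL_apply, ← S.coef_map φ t]

theorem cas_map (t : R) (a : W → R) : φ ∘ S.cas t a = S.cas (φ t) (φ ∘ a) := by
  funext x
  simp only [cas_apply, ← single_map φ, ← S.mulL_map φ t, Function.comp_apply, Finset.sum_apply,
    Pi.smul_apply, smul_eq_mul, map_sum, map_mul, map_pow]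

theorem Good.map {t : R} (h : S.Good t) : S.Good (φ t) where
  assoc u v w := by rw [← S.coef_map φ, ← S.coef_map φ, ← single_map φ, ← single_map φ, ← S.mulL_map φ,
    ← S.mulL_map φ, h.assoc]
  one_left v := by rw [← S.coef_map φ, h.one_left, single_map]
  one_right v := by rw [← S.coef_map φ, h.one_right, single_map]
  trace u v := by rw [← S.coef_map φ, Function.comp_apply, h.trace]; split_ifs <;> simp
  anti u v x := by rw [← S.coef_map φ, ← S.coef_map φ, Function.comp_apply, Function.comp_apply, h.anti]
  central a y := by rw [← single_map φ, ← single_map φ, ← S.cas_map φ, ← S.mulL_map φ, ← S.mulL_map φ, h.central]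

end map

theorem good_of_infinite {Q : Set ℂ} (hQ : Q.Infinite) (h : ∀ q ∈ Q, S.Good q) (t : ℂ) : S.Good t := by
  have key : ∀ {p p' : W → Polynomial ℂ}, (∀ q ∈ Q, Polynomial.evalRingHom q ∘ p = Polynomial.evalRingHom q ∘ p') →
      p = p' := fun {p p'} hp => funext fun x => sub_eq_zero.1 (Polynomial.eq_zero_of_infinite_isRoot _
    (hQ.mono fun q hq => by
      have := congrFun (hp q hq) x
      simpa [Polynomial.IsRoot, sub_eq_zero] using this))
  have hX : S.Good (Polynomial.X : Polynomial ℂ) :=
    { assoc := fun u v w => key fun q hq => by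
        simp only [mulL_map, coef_map, single_map]
        simp only [Polynomial.coe_evalRingHom, Polynomial.eval_X]
        exact (h q hq).assoc u v w
      one_left := fun v => key fun q hq => by
        simp only [coef_map, single_map]
        simp only [Polynomial.coe_evalRingHom, Polynomial.eval_X]
        exact (h q hq).one_left v
      one_right := fun v => key fun q hq => by
        simp only [coef_map, single_map]
        simp only [Polynomial.coe_evalRingHom, Polynomial.eval_X]
        exact (h q hq).one_right v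
      trace := fun u v => by
        refine congrFun (key (p := fun _ : W => S.coef Polynomial.X u v 1)
          (p' := fun _ : W => if u * v = 1 then Polynomial.X ^ S.len u else 0) fun q hq => funext fun _ => ?_) 1
        show Polynomial.evalRingHom q (S.coef Polynomial.X u v 1) = _
        rw [← Function.comp_apply (f := Polynomial.evalRingHom q), coef_map, Function.comp_apply]
        simp only [Polynomial.coe_evalRingHom, Polynomial.eval_X, (h q hq).trace]
        split_ifs <;> simp
      anti := fun u v x => by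
        refine congrFun (key (p := fun _ : W => S.coef Polynomial.X v⁻¹ u⁻¹ x⁻¹)
          (p' := fun _ : W => S.coef Polynomial.X u v x) fun q hq => funext fun _ => ?_) 1
        show Polynomial.evalRingHom q (S.coef Polynomial.X v⁻¹ u⁻¹ x⁻¹) =
          Polynomial.evalRingHom q (S.coef Polynomial.X u v x)
        rw [← Function.comp_apply (f := Polynomial.evalRingHom q), coef_map,
          ← Function.comp_apply (f := Polynomial.evalRingHom q) (g := S.coef Polynomial.X u v), coef_map]
        simp only [Polynomial.coe_evalRingHom, Polynomial.eval_X, (h q hq).anti]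
      central := fun a y => key fun q hq => by
        simp only [mulL_map, cas_map, single_map]
        simp only [Polynomial.coe_evalRingHom, Polynomial.eval_X]
        exact (h q hq).central a y }
  simpa using hX.map S (Polynomial.evalRingHom t)

/-! ### Consequences of the identities -/

theorem expand (a : W → R) : a = ∑ u, a u • Pi.single u 1 := by
  funext x; simp [Finset.sum_apply, Pi.single_apply]

section consequences

variable {S} {t : R} (h : S.Good t)
include h

theorem mul_assoc' (a b c : W → R) : S.mulL t (S.mulL t a b) c = S.mulL t a (S.mulL t b c) := by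
  have h1 : ∀ u v, S.mulL t (S.mulL t (Pi.single u 1) (Pi.single v 1)) c =
      S.mulL t (Pi.single u 1) (S.mulL t (Pi.single v 1) c) := fun u v => by
    rw [expand c]
    simp only [map_sum, map_smul, mulL_single, h.assoc]
  have h2 : ∀ u, S.mulL t (S.mulL t (Pi.single u 1) b) c = S.mulL t (Pi.single u 1) (S.mulL t b c) := fun u => by
    rw [expand b]
    simp only [map_sum, map_smul, LinearMap.sum_apply, LinearMap.smul_apply, h1]
  rw [expand a]
  simp only [map_sum, map_smul, LinearMap.sum_apply, LinearMap.smul_apply, h2]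

theorem one_mul' (a : W → R) : S.mulL t (Pi.single 1 1) a = a := by
  conv_lhs => rw [expand a]
  simp only [map_sum, map_smul, mulL_single, h.one_left]
  exact (expand a).symm

theorem mul_one' (a : W → R) : S.mulL t a (Pi.single 1 1) = a := by
  conv_lhs => rw [expand a]
  simp only [map_sum, map_smul, LinearMap.sum_apply, LinearMap.smul_apply, mulL_single, h.one_right]
  exact (expand a).symm

theorem central' (a b : W → R) : S.mulL t (S.cas t a) b = S.mulL t b (S.cas t a) := by
  have h1 : ∀ x, S.mulL t (S.cas t (Pi.single x 1)) b = S.mulL t b (S.cas t (Pi.single x 1)) := fun x => by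
    rw [expand b]
    simp only [map_sum, map_smul, LinearMap.sum_apply, LinearMap.smul_apply, h.central]
  rw [expand a]
  simp only [map_sum, map_smul, LinearMap.sum_apply, LinearMap.smul_apply, h1]

theorem cas_mul {z : W → R} (hz : ∀ b, S.mulL t z b = S.mulL t b z) (b : W → R) :
    S.cas t (S.mulL t z b) = S.mulL t z (S.cas t b) := by
  simp only [cas_apply, map_sum, map_smul]
  refine Finset.sum_congr rfl fun v _ => ?_
  rw [← mul_assoc' h (Pi.single v 1) z b, ← hz, mul_assoc' h z, mul_assoc' h z]

end consequences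

/-! ### Positivity -/

/-- The star operation. -/
noncomputable def star' (a : W → ℂ) : W → ℂ := fun x => conj (a x⁻¹)

theorem coef_conj (t : ℝ) (u v x : W) : conj (S.coef (t : ℂ) u v x) = S.coef (t : ℂ) u v x := by
  have h := congrFun (S.coef_map (starRingEnd ℂ) (t : ℂ) u v) x
  rw [Function.comp_apply, Complex.conj_ofReal] at h
  exact h

theorem star'_mul {t : ℝ} (h : S.Good (t : ℂ)) (a b : W → ℂ) :
    star' (S.mulL (t : ℂ) a b) = S.mulL (t : ℂ) (star' b) (star' a) := by
  funext x
  simp only [star', mulL_apply, Finset.sum_apply, Pi.smul_apply, smul_eq_mul, map_sum, map_mul, coef_conj]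
  rw [Finset.sum_comm]
  refine Fintype.sum_equiv (Equiv.inv W) _ _ fun v => Fintype.sum_equiv (Equiv.inv W) _ _ fun u => ?_
  have := h.anti u v x⁻¹
  rw [inv_inv] at this
  simp only [Equiv.inv_apply, inv_inv, ← this]
  ring

omit [Fintype W] in
theorem star'_single (v : W) : star' (Pi.single v 1) = (Pi.single v⁻¹ 1 : W → ℂ) := by
  funext x
  simp [star', Pi.single_apply, apply_ite (starRingEnd ℂ), inv_eq_iff_eq_inv]

theorem star_mul_self_one {t : ℝ} (h : S.Good (t : ℂ)) (a : W → ℂ) :
    S.mulL (t : ℂ) (star' a) a 1 = ((∑ x, Complex.normSq (a x) * t ^ S.len x : ℝ) : ℂ) := by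
  rw [mulL_apply, Finset.sum_apply, Complex.ofReal_sum]
  refine Fintype.sum_equiv (Equiv.inv W) _ _ fun u => ?_
  rw [Finset.sum_apply, Finset.sum_eq_single u⁻¹]
  · simp only [Pi.smul_apply, smul_eq_mul, h.trace, mul_inv_cancel, if_true, Equiv.inv_apply, star', S.len_inv]
    rw [Complex.ofReal_mul, Complex.ofReal_pow, Complex.normSq_eq_conj_mul_self]
  · intro v _ hv
    simp [h.trace, mul_eq_one_iff_eq_inv', hv]
  · simp

theorem casimir_injective {t : ℝ} (ht : 0 < t) (h : S.Good (t : ℂ)) {a : W → ℂ}
    (ha : S.mulL (t : ℂ) (S.cas (t : ℂ) (Pi.single 1 1)) a = 0) : a = 0 := by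
  classical
  let nrm : (W → ℂ) → ℝ := fun b => ∑ x, Complex.normSq (b x) * t ^ S.len x
  have hn : ∀ b, 0 ≤ nrm b := fun b =>
    Finset.sum_nonneg fun x _ => mul_nonneg (Complex.normSq_nonneg _) (pow_nonneg ht.le _)
  have hterm : ∀ v, S.mulL (t : ℂ) (star' a) (S.mulL (t : ℂ) (S.coef (t : ℂ) v v⁻¹) a) 1 =
      ((nrm (S.mulL (t : ℂ) (Pi.single v⁻¹ 1) a) : ℝ) : ℂ) := fun v => by
    rw [← star_mul_self_one S h, star'_mul S h, star'_single, inv_inv, mul_assoc' h, ← mulL_single,
      mul_assoc' h]
  have h0 : S.mulL (t : ℂ) (star' a) (S.mulL (t : ℂ) (S.cas (t : ℂ) (Pi.single 1 1)) a) 1 =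
      ((∑ v, t ^ (S.top - S.len v) * nrm (S.mulL (t : ℂ) (Pi.single v⁻¹ 1) a) : ℝ) : ℂ) := by
    simp only [cas_apply, mul_one' h, mulL_single, map_sum, map_smul, LinearMap.sum_apply, LinearMap.smul_apply,
      Finset.sum_apply, Pi.smul_apply, smul_eq_mul, hterm, Complex.ofReal_sum, Complex.ofReal_mul,
      Complex.ofReal_pow]
  rw [ha, map_zero, Pi.zero_apply, eq_comm, Complex.ofReal_eq_zero] at h0
  have h1 := (Finset.sum_eq_zero_iff_of_nonneg fun v _ => mul_nonneg (pow_nonneg ht.le _) (hn _)).1 h0 1
    (Finset.mem_univ _)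
  rw [inv_one, one_mul' h, mul_eq_zero] at h1
  have h2 := (Finset.sum_eq_zero_iff_of_nonneg fun x _ =>
    mul_nonneg (Complex.normSq_nonneg _) (pow_nonneg ht.le _)).1 (h1.resolve_left (pow_pos ht _).ne')
  funext x
  have h3 := h2 x (Finset.mem_univ _)
  rw [mul_eq_zero] at h3
  exact Complex.normSq_eq_zero.1 (h3.resolve_right (pow_pos ht _).ne')

/-- The commutation map. -/
noncomputable def ad (t : ℂ) : (W → ℂ) →ₗ[ℂ] (W → W → ℂ) :=
  LinearMap.pi fun y => (S.mulL t).flip (Pi.single y 1) - S.mulL t (Pi.single y 1)

/-- For positive parameters the image of the Casimir map is the centre. -/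
theorem range_cas {t : ℝ} (ht : 0 < t) (h : S.Good (t : ℂ)) :
    LinearMap.range (S.cas (t : ℂ)) = LinearMap.ker (S.ad (t : ℂ)) := by
  refine le_antisymm ?_ ?_
  · rintro _ ⟨a, rfl⟩
    refine LinearMap.mem_ker.2 (funext fun y => ?_)
    simp [ad, central' h]
  · intro z hz
    have hz' : ∀ b, S.mulL (t : ℂ) z b = S.mulL (t : ℂ) b z := fun b => by
      rw [expand b]
      simp only [map_sum, map_smul, LinearMap.sum_apply, LinearMap.smul_apply]
      refine Finset.sum_congr rfl fun y _ => ?_
      congr 1
      have := congrFun (LinearMap.mem_ker.1 hz) y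
      simpa [ad, sub_eq_zero] using this
    set u := S.cas (t : ℂ) (Pi.single 1 1) with hu
    have hinj : Function.Injective (S.mulL (t : ℂ) u) := by
      rw [injective_iff_map_eq_zero]
      exact fun a ha => casimir_injective S ht h ha
    obtain ⟨u', hu'⟩ := (LinearMap.injective_iff_surjective.1 hinj) (Pi.single 1 1)
    have hcu : ∀ b, S.mulL (t : ℂ) u' b = S.mulL (t : ℂ) b u' := fun b => hinj (by
      rw [← mul_assoc' h u u' b, hu', one_mul' h, ← mul_assoc' h u b u', central' h, mul_assoc' h b u u', hu',
        mul_one' h])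
    refine ⟨S.mulL (t : ℂ) z u', ?_⟩
    have hzu : ∀ b, S.mulL (t : ℂ) (S.mulL (t : ℂ) z u') b = S.mulL (t : ℂ) b (S.mulL (t : ℂ) z u') := fun b => by
      rw [mul_assoc' h, hcu, ← mul_assoc' h, hz', mul_assoc' h]
    conv_lhs => rw [← mul_one' h (S.mulL (t : ℂ) z u')]
    rw [cas_mul h hzu, ← hu, mul_assoc' h, hcu, hu', mul_one' h]

theorem finrank_add (t : ℝ) (ht : 0 < t) (h : S.Good (t : ℂ)) :
    Module.finrank ℂ (LinearMap.range (S.cas (t : ℂ))) + Module.finrank ℂ (LinearMap.range (S.ad (t : ℂ))) =
      Fintype.card W := by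
  rw [range_cas S ht h, add_comm, LinearMap.finrank_range_add_finrank_ker, Module.finrank_pi]

theorem isOpen_le_rank {V U : Type*} [AddCommGroup V] [Module ℂ V] [FiniteDimensional ℂ V]
    [NormedAddCommGroup U] [NormedSpace ℂ U] [FiniteDimensional ℂ U] (f : ℝ → V →ₗ[ℂ] U)
    (hf : ∀ x, Continuous fun t => f t x) (r : ℕ) :
    IsOpen {t | r ≤ Module.finrank ℂ (LinearMap.range (f t))} := by
  rw [isOpen_iff_mem_nhds]
  intro t0 ht0
  let b := Module.finBasis ℂ (LinearMap.range (f t0))
  choose x hx using fun i => (b i).2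
  have hli : LinearIndependent ℂ fun i => f t0 (x i) := by
    simp only [hx]
    exact b.linearIndependent.map' (LinearMap.range (f t0)).subtype (Submodule.ker_subtype _)
  have hc : Continuous fun t => fun i => f t (x i) := continuous_pi fun i => hf _
  have hopen : IsOpen ((fun t => fun i => f t (x i)) ⁻¹' {v | LinearIndependent ℂ v}) :=
    isOpen_setOfPred_linearIndependent.preimage hc
  filter_upwards [hopen.mem_nhds hli] with t (ht : LinearIndependent ℂ fun i => f t (x i))
  have h2 := ht
  have : LinearIndependent ℂ fun i => (⟨f t (x i), LinearMap.mem_range_self _ _⟩ : LinearMap.range (f t)) :=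
    LinearIndependent.of_comp (LinearMap.range (f t)).subtype h2
  exact ht0.trans (by simpa using this.fintype_card_le_finrank)

theorem continuous_cas (a : W → ℂ) : Continuous fun t : ℝ => S.cas (t : ℂ) a := by
  have h : ∀ t : ℝ, S.cas (t : ℂ) a = ∑ w, a w •
      fun x => (S.cas (Polynomial.X : Polynomial ℂ) (Pi.single w 1) x).eval (t : ℂ) := fun t => by
    conv_lhs => rw [expand a]
    simp only [map_sum, map_smul]
    refine Finset.sum_congr rfl fun w _ => ?_
    congr 1
    have := S.cas_map (Polynomial.evalRingHom (t : ℂ)) Polynomial.X (Pi.single w 1)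
    rw [single_map] at this
    simp only [Polynomial.coe_evalRingHom, Polynomial.eval_X] at this
    exact this.symm
  simp only [h]
  refine continuous_finsetSum _ fun w _ => continuous_pi fun x => ?_
  simp only [Pi.smul_apply, smul_eq_mul]
  exact continuous_const.mul ((Polynomial.continuous _).comp Complex.continuous_ofReal)

theorem continuous_ad (a : W → ℂ) : Continuous fun t : ℝ => S.ad (t : ℂ) a := by
  have h : ∀ (t : ℝ) (u v x : W), S.coef (t : ℂ) u v x =
      (S.coef (Polynomial.X : Polynomial ℂ) u v x).eval (t : ℂ) := fun t u v x => by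
    have := congrFun (S.coef_map (Polynomial.evalRingHom (t : ℂ)) Polynomial.X u v) x
    simp only [Polynomial.coe_evalRingHom, Polynomial.eval_X, Function.comp_apply] at this
    exact this.symm
  refine continuous_pi fun y => continuous_pi fun x => ?_
  simp only [ad, LinearMap.pi_apply, LinearMap.sub_apply, LinearMap.flip_apply, mulL_apply, Pi.sub_apply,
    Finset.sum_apply, Pi.smul_apply, smul_eq_mul, h]
  fun_prop

/-- The rank of the Casimir map does not depend on the positive parameter. -/
theorem finrank_cas_eq (hG : ∀ t : ℂ, S.Good t) {a b : ℝ} (ha : 0 < a) (hb : 0 < b) :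
    Module.finrank ℂ (LinearMap.range (S.cas (a : ℂ))) = Module.finrank ℂ (LinearMap.range (S.cas (b : ℂ))) := by
  haveI : PreconnectedSpace (Set.Ioi (0 : ℝ)) := Subtype.preconnectedSpace isPreconnected_Ioi
  let f : Set.Ioi (0 : ℝ) → ℕ := fun t => Module.finrank ℂ (LinearMap.range (S.cas (((t : ℝ)) : ℂ)))
  have hf : IsLocallyConstant f := IsLocallyConstant.iff_isOpen_fiber.2 fun r => by
    have h1 := isOpen_le_rank (fun t : ℝ => S.cas (t : ℂ)) S.continuous_cas r
    have h2 := isOpen_le_rank (fun t : ℝ => S.ad (t : ℂ)) S.continuous_ad (Fintype.card W - r)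
    have he : f ⁻¹' {r} = Subtype.val ⁻¹' ({t : ℝ | r ≤ Module.finrank ℂ (LinearMap.range (S.cas (t : ℂ)))} ∩
        {t : ℝ | Fintype.card W - r ≤ Module.finrank ℂ (LinearMap.range (S.ad (t : ℂ)))}) := by
      ext ⟨t, ht⟩
      have := S.finrank_add t ht (hG _)
      simp only [f, Set.mem_preimage, Set.mem_singleton_iff, Set.mem_inter_iff, Set.mem_setOf_eq]
      omega
    rw [he]
    exact (h1.inter h2).preimage continuous_subtype_val
  exact hf.apply_eq_of_preconnectedSpace (⟨a, ha⟩ : Set.Ioi (0 : ℝ)) ⟨b, hb⟩

/-! ### The parameter `1` -/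

theorem step_one (i : ι) (f : W → ℂ) : S.step 1 i f = fun x => f (S.s i * x) := by
  funext x
  simp [step]

theorem act_one (l : List ι) (f : W → ℂ) : S.act 1 l f = fun x => f ((l.map S.s).prod⁻¹ * x) := by
  induction l with
  | nil => simp [act]
  | cons i l ih =>
    show S.step 1 i (S.act 1 l f) = _
    rw [step_one, ih]
    funext x
    simp [mul_inv_rev, mul_assoc, inv_eq_of_mul_eq_one_right (S.sq i)]

theorem coef_one (u v : W) : S.coef (1 : ℂ) u v = Pi.single (u * v) 1 := by
  rw [coef, act_one, S.prod_word]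
  funext x
  simp [Pi.single_apply, inv_mul_eq_iff_eq_mul]

theorem finrank_cas_one (hG : ∀ t : ℂ, S.Good t) :
    Module.finrank ℂ (LinearMap.range (S.cas (1 : ℂ))) = Nat.card (ConjClasses W) := by
  classical
  have h := range_cas S one_pos (hG _)
  rw [Complex.ofReal_one] at h
  rw [h]
  have hker : ∀ a : W → ℂ, a ∈ LinearMap.ker (S.ad 1) ↔ ∀ g y, a (y * g * y⁻¹) = a g := by
    intro a
    have e1 : ∀ y x, S.mulL (1 : ℂ) a (Pi.single y 1) x = a (x * y⁻¹) := fun y x => by
      conv_lhs => rw [expand a]
      simp only [map_sum, map_smul, LinearMap.sum_apply, LinearMap.smul_apply, mulL_single, coef_one,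
        Finset.sum_apply, Pi.smul_apply, smul_eq_mul]
      rw [Finset.sum_eq_single (x * y⁻¹)] <;> simp +contextual [Pi.single_apply, eq_mul_inv_iff_mul_eq, eq_comm]
    have e2 : ∀ y x, S.mulL (1 : ℂ) (Pi.single y 1) a x = a (y⁻¹ * x) := fun y x => by
      conv_lhs => rw [expand a]
      simp only [map_sum, map_smul, LinearMap.sum_apply, LinearMap.smul_apply, mulL_single, coef_one,
        Finset.sum_apply, Pi.smul_apply, smul_eq_mul]
      rw [Finset.sum_eq_single (y⁻¹ * x)] <;> simp +contextual [Pi.single_apply, eq_inv_mul_iff_mul_eq, eq_comm]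
    rw [LinearMap.mem_ker, funext_iff]
    simp only [ad, LinearMap.pi_apply, LinearMap.sub_apply, LinearMap.flip_apply, funext_iff, Pi.sub_apply,
      Pi.zero_apply, sub_eq_zero, e1, e2]
    constructor
    · intro h g y; simpa [mul_assoc] using h y (y * g)
    · intro h y x; simpa [mul_assoc] using h (y⁻¹ * x) y
  let L : (ConjClasses W → ℂ) →ₗ[ℂ] (W → ℂ) := LinearMap.funLeft ℂ ℂ ConjClasses.mk
  have hr : LinearMap.ker (S.ad 1) = LinearMap.range L := by
    ext a
    rw [hker, LinearMap.mem_range]
    constructor
    · intro h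
      refine ⟨fun C => a (Quotient.out C), funext fun g => ?_⟩
      obtain ⟨y, hy⟩ := isConj_iff.1 (ConjClasses.mk_eq_mk_iff_isConj.1 (Quotient.out_eq (ConjClasses.mk g)))
      show a (Quotient.out (ConjClasses.mk g)) = a g
      have := h (Quotient.out (ConjClasses.mk g)) y
      rw [hy] at this
      exact this.symm
    · rintro ⟨c, rfl⟩ g y
      exact congrArg c (ConjClasses.mk_eq_mk_iff_isConj.2 (isConj_iff.2 ⟨y⁻¹, by group⟩))
  rw [hr, LinearMap.finrank_range_of_inj (LinearMap.funLeft_injective_of_surjective _ _ _ ConjClasses.mk_surjective),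
    Module.finrank_pi, Nat.card_eq_fintype_card]

end WordData

end Cfsg.Agent.HeckeRank
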