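/-
A finite group action whose orbital matrices satisfy the Hecke relations realises the family at that parameter.
-/
import Cfsg.Agent.Lib.HeckeRank.Constituents
import Cfsg.Agent.Lib.HeckeRank.Family

set_option autoImplicit false
set_option linter.unusedSectionVars false

namespace Cfsg.Agent.HeckeRank

open scoped Matrix
open Cfsg

universe u v

variable {G : Type u} [Group G] [Fintype G] {X : Type v} [Fintype X] [DecidableEq X] [MulAction G X]
  {W : Type*} [Group W] [Fintype W] [DecidableEq W] {ι : Type*}

/-- The hypotheses on a model at the parameter `q`. -/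
structure Model (S : WordData W ι) (q : ℕ) (rel : X → X → W) : Prop where
  orbital : Orbital (G := G) rel fun w => q ^ S.len w
  symm : ∀ x y, rel y x = (rel x y)⁻¹
  step : ∀ (i : ι) (f : W → ℂ), orbM rel (S.s i) * matL rel f = matL rel (S.step (q : ℂ) i f)

variable {S : WordData W ι} {q : ℕ} {rel : X → X → W} (h : Model (G := G) S q rel)
include h

theorem matL_single_one : matL rel (Pi.single (1 : W) (1 : ℂ)) = 1 := by
  ext u v
  rw [matL_apply, Pi.single_apply, Matrix.one_apply]
  simp [h.orbital.diag]

theorem matL_injective : Function.Injective (matL (X := X) rel) := by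
  intro a b e
  funext w
  obtain ⟨o⟩ := h.orbital.ne
  have hp := h.orbital.pos w
  rw [← h.orbital.card o w] at hp
  obtain ⟨⟨v, hv⟩⟩ := (Nat.card_pos_iff.1 hp).1
  have := congrFun (congrFun e o) v
  simpa [matL_apply, hv] using this

theorem orbM_transpose (w : W) : (orbM rel w)ᵀ = orbM rel w⁻¹ := by
  ext u v
  rw [Matrix.transpose_apply, orbM_apply, orbM_apply, h.symm u v]
  simp [inv_eq_iff_eq_inv]

theorem matL_act (l : List ι) (f : W → ℂ) :
    matL rel (S.act (q : ℂ) l f) = (l.map fun i => orbM rel (S.s i)).prod * matL rel f := by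
  induction l with
  | nil => simp [WordData.act]
  | cons i l ih =>
    show matL rel (S.step (q : ℂ) i (S.act (q : ℂ) l f)) = _
    rw [← h.step, ih, List.map_cons, List.prod_cons, mul_assoc]

omit h in
theorem len_prod_le (S : WordData W ι) (l : List ι) : S.len (l.map S.s).prod ≤ l.length := by
  induction l with
  | nil => simp [S.len_one]
  | cons i l ih => simpa using (S.len_step i _).trans (Nat.add_le_add_right ih 1)

theorem prod_orbM (l : List ι) (hl : S.len (l.map S.s).prod = l.length) :
    (l.map fun i => orbM (X := X) rel (S.s i)).prod = orbM rel (l.map S.s).prod := by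
  induction l with
  | nil => simp [orbM, matL_single_one h]
  | cons i l ih =>
    simp only [List.map_cons, List.prod_cons, List.length_cons] at hl ⊢
    have h1 := len_prod_le S l
    have h2 := S.len_step i (l.map S.s).prod
    rw [ih (by omega)]
    rw [show orbM rel (l.map S.s).prod = matL rel (Pi.single (l.map S.s).prod 1) from rfl, h.step, orbM]
    congr 1
    funext x
    simp only [WordData.step, LinearMap.coe_mk, AddHom.coe_mk, Pi.single_apply]
    by_cases hx : x = S.s i * (l.map S.s).prod
    · subst hx
      rw [← mul_assoc, S.sq, one_mul, if_pos (by omega), if_pos rfl, if_pos rfl]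
      rw [if_neg (fun e => ?_), mul_zero, add_zero]
      have := congrArg S.len e
      omega
    · have hx' : S.s i * x ≠ (l.map S.s).prod := fun e => hx (by rw [← e, ← mul_assoc, S.sq, one_mul])
      rw [if_neg hx', if_neg hx]
      split_ifs with hlt hd
      · -- `x` is the product itself, which is shorter than its translate
        subst hd
        omega
      · simp
      · simp

theorem matL_coef (u v : W) : matL rel (S.coef (q : ℂ) u v) = orbM rel u * orbM rel v := by
  rw [WordData.coef, matL_act h, prod_orbM h _ (by rw [S.prod_word, S.length_word]), S.prod_word]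
  rfl

theorem matL_mulL (a b : W → ℂ) : matL rel (S.mulL (q : ℂ) a b) = matL rel a * matL rel b := by
  conv_rhs => rw [WordData.expand a, WordData.expand b]
  simp only [WordData.mulL_apply, map_sum, map_smul, matL_coef h, Finset.sum_mul, Finset.mul_sum,
    smul_mul_assoc, mul_smul_comm, smul_smul]
  rw [Finset.sum_comm]
  refine Finset.sum_congr rfl fun v _ => ?_
  rw [Finset.smul_sum]
  refine Finset.sum_congr rfl fun u _ => ?_
  rw [smul_smul, mul_comm (a u)]
  rfl

theorem matL_cas (hq : 0 < q) (a : W → ℂ) :
    matL rel (S.cas (q : ℂ) a) = (q : ℂ) ^ S.top • casL (fun w => q ^ S.len w) rel a := by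
  rw [WordData.cas_apply, casL_apply, map_sum, Finset.smul_sum]
  refine Finset.sum_congr rfl fun w _ => ?_
  rw [map_smul, matL_mulL h, matL_mulL h, orbM_transpose h, smul_smul]
  congr 1
  have hq' : (q : ℂ) ≠ 0 := Nat.cast_ne_zero.2 hq.ne'
  have hle : S.len w ≤ S.top := Finset.single_le_sum (fun x _ => Nat.zero_le (S.len x)) (Finset.mem_univ w)
  rw [Nat.cast_pow, ← pow_sub₀ _ hq' hle]

theorem good (hq : 0 < q) : S.Good (q : ℂ) where
  assoc u v w := matL_injective h (by
    rw [matL_mulL h, matL_mulL h, matL_coef h, matL_coef h, mul_assoc]; rfl)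
  one_left v := matL_injective h (by
    rw [matL_coef h, orbM, matL_single_one h, one_mul]; rfl)
  one_right v := matL_injective h (by
    rw [matL_coef h, orbM, orbM, matL_single_one h, mul_one])
  trace u v := by
    obtain ⟨o⟩ := h.orbital.ne
    have e := congrFun (congrFun (matL_coef h u v) o) o
    rw [matL_apply, (h.orbital.diag o o).2 rfl, Matrix.mul_apply] at e
    rw [e]
    simp only [orbM_apply, h.symm o]
    split_ifs with huv
    · obtain rfl := eq_inv_of_mul_eq_one_right huv
      simp only [inv_inj, ← ite_and, and_self, ite_mul, one_mul, zero_mul, Finset.sum_boole]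
      rw [← Nat.cast_pow, ← h.orbital.card o u, Nat.card_eq_fintype_card, Fintype.card_subtype]
    · refine Finset.sum_eq_zero fun y _ => ?_
      by_cases hy : rel o y = u
      · subst hy
        rw [if_pos rfl, one_mul, if_neg]
        intro e'
        exact huv (by rw [← e', mul_inv_cancel])
      · rw [if_neg hy, zero_mul]
  anti u v x := by
    have e : matL rel (fun y => S.coef (q : ℂ) v⁻¹ u⁻¹ y⁻¹) = matL rel (S.coef (q : ℂ) u v) := by
      rw [show matL rel (fun y => S.coef (q : ℂ) v⁻¹ u⁻¹ y⁻¹) = (matL rel (S.coef (q : ℂ) v⁻¹ u⁻¹))ᵀ by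
        ext a b; simp [matL_apply, h.symm a b], matL_coef h, matL_coef h, Matrix.transpose_mul,
        orbM_transpose h, orbM_transpose h, inv_inv, inv_inv]
    exact congrFun (matL_injective h e) x
  central a y := matL_injective h (by
    rw [matL_mulL h, matL_mulL h, matL_cas h hq, casL_eq h.orbital, smul_smul, smul_mul_assoc, mul_smul_comm,
      opM_comm h.orbital])

theorem finrank_cas (hq : 0 < q) :
    Module.finrank ℂ (LinearMap.range (S.cas (q : ℂ))) =
      Nat.card {χ : IrrCharacter G // classInner (pchar (G := G) (X := X)) χ.1 ≠ 0} := by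
  rw [← finrank_casL h.orbital]
  have e : (matL rel).comp (S.cas (q : ℂ)) = ((q : ℂ) ^ S.top) • casL (fun w => q ^ S.len w) rel :=
    LinearMap.ext fun a => matL_cas h hq a
  rw [← LinearMap.range_smul (casL (fun w => q ^ S.len w) rel) ((q : ℂ) ^ S.top)
    (pow_ne_zero _ (Nat.cast_ne_zero.2 hq.ne')), ← e, LinearMap.range_comp]
  exact (Submodule.equivMapOfInjective _ (matL_injective h) _).finrank_eq

end Cfsg.Agent.HeckeRank
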