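/-
The coset space of a finite (B,N)-pair with all `|BsB/B| = q` realises the Hecke family at `q`.
-/
import Cfsg.Agent.Lib.HeckeRank.Model
import Cfsg.Agent.Lib.BNPair.Steinberg

set_option autoImplicit false
set_option linter.unusedSectionVars false

namespace Cfsg.Agent.HeckeRank

open Cfsg

variable {G : Type*} [Group G] [Finite G] (P : BNPair G) {W : Type*} [Group W] {ι : Type*}

/-- The position of two cosets. -/
noncomputable def relQ (x y : G ⧸ P.B) : BN.Weyl P :=
  Quotient.liftOn₂' x y (fun g h => BN.wIdx P (g⁻¹ * h)) fun a₁ b₁ a₂ b₂ ha hb => by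
    refine BN.wIdx_eq P ?_
    have e : a₁⁻¹ * b₁ = (a₁⁻¹ * a₂) * (a₂⁻¹ * b₂) * (b₁⁻¹ * b₂)⁻¹ := by group
    rw [e]
    exact BN.mul_mem_cell P (BN.mem_cell_wIdx P _) (QuotientGroup.leftRel_apply.1 ha)
      (P.B.inv_mem (QuotientGroup.leftRel_apply.1 hb))

theorem relQ_mk (g h : G) : relQ P (g : G ⧸ P.B) (h : G ⧸ P.B) = BN.wIdx P (g⁻¹ * h) := rfl

theorem relQ_mem (g h : G) : g⁻¹ * h ∈ BN.cell P (relQ P (g : G ⧸ P.B) (h : G ⧸ P.B)) :=
  BN.mem_cell_wIdx P _

theorem relQ_smul (k : G) (x y : G ⧸ P.B) : relQ P (k • x) (k • y) = relQ P x y := by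
  obtain ⟨g, rfl⟩ := QuotientGroup.mk_surjective x
  obtain ⟨h, rfl⟩ := QuotientGroup.mk_surjective y
  rw [MulAction.Quotient.smul_mk, MulAction.Quotient.smul_mk, relQ_mk, relQ_mk, smul_eq_mul, smul_eq_mul]
  congr 1
  group

theorem relQ_symm (x y : G ⧸ P.B) : relQ P y x = (relQ P x y)⁻¹ := by
  obtain ⟨g, rfl⟩ := QuotientGroup.mk_surjective x
  obtain ⟨h, rfl⟩ := QuotientGroup.mk_surjective y
  rw [relQ_mk P h g]
  exact BN.wIdx_eq P (by simpa using BN.inv_mem_cell P (relQ_mem P g h))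

theorem relQ_eq_one (x y : G ⧸ P.B) : relQ P x y = 1 ↔ x = y := by
  obtain ⟨g, rfl⟩ := QuotientGroup.mk_surjective x
  obtain ⟨h, rfl⟩ := QuotientGroup.mk_surjective y
  constructor
  · intro e
    have := relQ_mem P g h
    rw [e, BN.mem_cell_one] at this
    exact QuotientGroup.eq.2 this
  · intro e
    exact BN.wIdx_eq P ((BN.mem_cell_one P).2 (QuotientGroup.eq.1 e))

theorem relQ_sep (u v u' v' : G ⧸ P.B) (e : relQ P u v = relQ P u' v') :
    ∃ k : G, k • u = u' ∧ k • v = v' := by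
  obtain ⟨g, rfl⟩ := QuotientGroup.mk_surjective u
  obtain ⟨h, rfl⟩ := QuotientGroup.mk_surjective v
  obtain ⟨g', rfl⟩ := QuotientGroup.mk_surjective u'
  obtain ⟨h', rfl⟩ := QuotientGroup.mk_surjective v'
  have h1 := relQ_mem P g h
  rw [e] at h1
  obtain ⟨b, hb, c, hc, he⟩ := BN.exists_of_mem_cell P (relQ_mem P g' h') h1
  refine ⟨g' * b * g⁻¹, ?_, ?_⟩
  · rw [MulAction.Quotient.smul_mk, QuotientGroup.eq, smul_eq_mul]
    have : (g' * b * g⁻¹ * g)⁻¹ * g' = b⁻¹ := by group
    rw [this]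
    exact P.B.inv_mem hb
  · rw [MulAction.Quotient.smul_mk, QuotientGroup.eq, smul_eq_mul]
    have : (g' * b * g⁻¹ * h)⁻¹ * h' = (b * (g⁻¹ * h))⁻¹ * (g'⁻¹ * h') := by group
    rw [this, he]
    simpa [mul_assoc] using hc

/-- Composition of positions. -/
theorem relQ_trans {s : P.S} (u y v : G ⧸ P.B) (hs : relQ P u y = BN.refl P s) :
    relQ P u v = BN.refl P s * relQ P y v ∨ relQ P u v = relQ P y v := by
  obtain ⟨a, rfl⟩ := QuotientGroup.mk_surjective u
  obtain ⟨b, rfl⟩ := QuotientGroup.mk_surjective y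
  obtain ⟨c, rfl⟩ := QuotientGroup.mk_surjective v
  have h1 := relQ_mem P a b
  rw [hs] at h1
  rcases BN.mul_mem_or P h1 (relQ_mem P b c) with h | h <;>
    rw [show a⁻¹ * b * (b⁻¹ * c) = a⁻¹ * c by group] at h
  · exact Or.inl (BN.wIdx_eq P h)
  · exact Or.inr (BN.wIdx_eq P h)

theorem relQ_trans_up {s : P.S} (u y v : G ⧸ P.B) (hs : relQ P u y = BN.refl P s)
    (h : BN.len P (relQ P y v) ≤ BN.len P (BN.refl P s * relQ P y v)) :
    relQ P u v = BN.refl P s * relQ P y v := by
  obtain ⟨a, rfl⟩ := QuotientGroup.mk_surjective u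
  obtain ⟨b, rfl⟩ := QuotientGroup.mk_surjective y
  obtain ⟨c, rfl⟩ := QuotientGroup.mk_surjective v
  have h1 := relQ_mem P a b
  rw [hs] at h1
  have h2 := BN.mul_mem_of_len_le P h h1 (relQ_mem P b c)
  rw [show a⁻¹ * b * (b⁻¹ * c) = a⁻¹ * c by group] at h2
  exact BN.wIdx_eq P h2

/-- The unique intermediate coset. -/
theorem existsUnique_between {s : P.S} {w : BN.Weyl P} (h : BN.len P w ≤ BN.len P (BN.refl P s * w))
    (u v : G ⧸ P.B) (huv : relQ P u v = BN.refl P s * w) :
    ∃! y, relQ P u y = BN.refl P s ∧ relQ P y v = w := by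
  obtain ⟨a, rfl⟩ := QuotientGroup.mk_surjective u
  obtain ⟨c, rfl⟩ := QuotientGroup.mk_surjective v
  have h1 := relQ_mem P a c
  rw [huv] at h1
  obtain ⟨x, hx, z, hz, e⟩ := BN.exists_factor P h1
  refine ⟨((a * x : G) : G ⧸ P.B), ⟨BN.wIdx_eq P (by simpa using hx), BN.wIdx_eq P ?_⟩, ?_⟩
  · have : (a * x)⁻¹ * c = x⁻¹ * (a⁻¹ * c) := by group
    rw [this, e]
    simpa using hz
  · rintro y ⟨hy1, hy2⟩
    by_contra hne
    set y0 : G ⧸ P.B := ((a * x : G) : G ⧸ P.B) with hy0
    have k1 : relQ P (a : G ⧸ P.B) y0 = BN.refl P s := BN.wIdx_eq P (by simpa using hx)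
    have k2 : relQ P y0 (c : G ⧸ P.B) = w := BN.wIdx_eq P (by
      have : (a * x)⁻¹ * c = x⁻¹ * (a⁻¹ * c) := by group
      rw [this, e]; simpa using hz)
    have k3 : relQ P y (a : G ⧸ P.B) = BN.refl P s := by rw [relQ_symm, hy1, BN.refl_inv]
    rcases relQ_trans P (s := s) y (a : G ⧸ P.B) y0 k3 with h3 | h3 <;> rw [k1] at h3
    · rw [BN.refl_mul_self] at h3
      exact hne ((relQ_eq_one P y y0).1 h3)
    · have h4 := relQ_trans_up P (s := s) y y0 (c : G ⧸ P.B) h3 (by rw [k2]; exact h)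
      rw [hy2, k2] at h4
      exact BN.refl_ne_one P s (mul_right_cancel (h4.symm.trans (one_mul w).symm))

/-- All minimal double cosets consist of `q` cosets. -/
def HasParam (q : ℕ) : Prop :=
  ∀ (s : P.S), Nat.card {y : G ⧸ P.B // relQ P ((1 : G) : G ⧸ P.B) y = BN.refl P s} = q

variable {P} {q : ℕ} (hq : HasParam P q)
include hq

theorem card_refl (s : P.S) (u : G ⧸ P.B) : Nat.card {y : G ⧸ P.B // relQ P u y = BN.refl P s} = q := by
  obtain ⟨g, rfl⟩ := QuotientGroup.mk_surjective u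
  rw [← hq s]
  refine Nat.card_congr ((MulAction.toPerm g⁻¹).subtypeEquiv fun y => ?_)
  rw [MulAction.toPerm_apply, ← relQ_smul P g⁻¹ (g : G ⧸ P.B) y, MulAction.Quotient.smul_mk, smul_eq_mul,
    inv_mul_cancel]

theorem card_pos_param (s : P.S) : 0 < q := by
  rw [← hq s]
  haveI : Nonempty {y : G ⧸ P.B // relQ P ((1 : G) : G ⧸ P.B) y = BN.refl P s} :=
    ⟨⟨((s : G) : G ⧸ P.B), BN.wIdx_eq P (by simpa using BN.coe_mem_cell_refl P s)⟩⟩
  exact Nat.card_pos

theorem card_relQ (u : G ⧸ P.B) (w : BN.Weyl P) :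
    Nat.card {v : G ⧸ P.B // relQ P u v = w} = q ^ BN.len P w := by
  suffices key : ∀ d, ∀ w : BN.Weyl P, BN.len P w = d → ∀ u,
      Nat.card {v : G ⧸ P.B // relQ P u v = w} = q ^ d from key _ w rfl u
  intro d
  induction d with
  | zero =>
    intro w hw u
    obtain rfl := (BN.len_eq_zero P).1 hw
    rw [pow_zero, Nat.card_eq_one_iff_exists]
    exact ⟨⟨u, (relQ_eq_one P u u).2 rfl⟩, fun v => Subtype.ext ((relQ_eq_one P u v).1 v.2).symm⟩
  | succ d ih =>
    intro w hw u
    obtain ⟨s, m, rfl, hlen⟩ := BN.exists_descent P (w := w) (fun h => by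
      rw [(BN.len_eq_zero P).2 h] at hw; omega)
    have hm : BN.len P m = d := by omega
    have hup : BN.len P m ≤ BN.len P (BN.refl P s * m) := by omega
    haveI := Fintype.ofFinite {y : G ⧸ P.B // relQ P u y = BN.refl P s}
    let f : (Σ y : {y : G ⧸ P.B // relQ P u y = BN.refl P s}, {v : G ⧸ P.B // relQ P y.1 v = m}) →
        {v : G ⧸ P.B // relQ P u v = BN.refl P s * m} := fun p =>
      ⟨p.2.1, by
        have h := relQ_trans_up P (s := s) u p.1.1 p.2.1 p.1.2 (by rw [p.2.2]; exact hup)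
        rwa [p.2.2] at h⟩
    have hf : Function.Bijective f := by
      constructor
      · rintro ⟨⟨y, hy⟩, ⟨v, hv⟩⟩ ⟨⟨y', hy'⟩, ⟨v', hv'⟩⟩ e
        have e' : v = v' := congrArg Subtype.val e
        subst e'
        obtain rfl : y = y' := (existsUnique_between P hup u v (f ⟨⟨y, hy⟩, ⟨v, hv⟩⟩).2).unique ⟨hy, hv⟩ ⟨hy', hv'⟩
        rfl
      · rintro ⟨v, hv⟩
        obtain ⟨y, ⟨hy1, hy2⟩, -⟩ := existsUnique_between P hup u v hv
        exact ⟨⟨⟨y, hy1⟩, ⟨v, hy2⟩⟩, rfl⟩
    rw [← Nat.card_congr (Equiv.ofBijective f hf), Nat.card_sigma,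
      Finset.sum_congr rfl fun y _ => ih m hm y.1, Finset.sum_const, Finset.card_univ, ← Nat.card_eq_fintype_card,
      card_refl hq s u, smul_eq_mul, pow_succ']

omit hq

variable (e : BN.Weyl P ≃* W) (g : ι → P.S)

/-- The word data of a Weyl group. -/
noncomputable def bnWordData (hg : Function.Surjective g) : WordData W ι where
  s i := e (BN.refl P (g i))
  len w := BN.len P (e.symm w)
  word w := (Classical.choose (BN.exists_reduced P (e.symm w))).map (Function.surjInv hg)
  prod_word w := by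
    have h := (Classical.choose_spec (BN.exists_reduced P (e.symm w))).1
    rw [List.map_map]
    have : ((fun i => e (BN.refl P (g i))) ∘ Function.surjInv hg) = e ∘ BN.refl P := by
      funext s
      simp [Function.surjInv_eq hg]
    rw [this, ← List.map_map, ← map_list_prod, ← BN.word, h, MulEquiv.apply_symm_apply]
  length_word w := by
    rw [List.length_map]
    exact (Classical.choose_spec (BN.exists_reduced P (e.symm w))).2
  len_one := by rw [map_one]; exact (BN.len_eq_zero P).2 rfl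
  len_inv w := by rw [map_inv, BN.len_inv]
  len_step i w := by rw [map_mul, MulEquiv.symm_apply_apply]; exact BN.len_refl_mul_le P _ _
  sq i := by rw [← map_mul, BN.refl_mul_self, map_one]
  len_ne i w := by rw [map_mul, MulEquiv.symm_apply_apply]; exact BN.len_refl_mul_ne P _ _

/-- The coset space is a model. -/
theorem bnModel [Fintype G] [Fintype (G ⧸ P.B)] [DecidableEq (G ⧸ P.B)] [Fintype W] [DecidableEq W]
    (hq : HasParam P q) (S : WordData W ι) (hs : ∀ i, S.s i = e (BN.refl P (g i)))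
    (hlen : ∀ w, S.len w = BN.len P (e.symm w)) (hqpos : 0 < q) :
    Model (G := G) S q fun x y : G ⧸ P.B => e (relQ P x y) where
  orbital :=
    { inv := fun k u v => by rw [relQ_smul]
      sep := fun u v u' v' h => relQ_sep P u v u' v' (e.injective h)
      card := fun u w => by
        rw [hlen, ← card_relQ hq u (e.symm w)]
        exact Nat.card_congr (Equiv.subtypeEquivRight fun v => (MulEquiv.eq_symm_apply e).symm)
      pos := fun w => pow_pos hqpos _
      diag := fun u v => by rw [e.map_eq_one_iff, relQ_eq_one]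
      ne := ⟨((1 : G) : G ⧸ P.B)⟩ }
  symm x y := by rw [relQ_symm P x y, map_inv]
  step i f := by
    classical
    ext u v
    rw [Matrix.mul_apply]
    simp only [orbM_apply, matL_apply, ite_mul, one_mul, zero_mul, WordData.step, LinearMap.coe_mk, AddHom.coe_mk,
      hs, e.injective.eq_iff, hlen, ← map_mul, MulEquiv.symm_apply_apply]
    rw [← Finset.sum_filter]
    set s := g i
    set x := relQ P u v
    have hcard : (Finset.univ.filter fun y => relQ P u y = BN.refl P s).card = q := by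
      rw [← card_refl hq s u, Nat.card_eq_fintype_card, Fintype.card_subtype]
    have hor : ∀ y ∈ Finset.univ.filter (fun y => relQ P u y = BN.refl P s),
        relQ P y v = BN.refl P s * x ∨ relQ P y v = x := fun y hy => by
      have hy' := (Finset.mem_filter.1 hy).2
      exact relQ_trans P (s := s) y u v (by rw [relQ_symm, hy', BN.refl_inv])
    have hne : BN.refl P s * x ≠ x := fun h => BN.refl_ne_one P s (mul_right_cancel (h.trans (one_mul x).symm))
    split_ifs with hlt
    · obtain ⟨y0, ⟨h01, h02⟩, huniq⟩ := existsUnique_between P (s := s) (w := BN.refl P s * x)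
        (by rw [BN.refl_cancel_left]; omega) u v (by rw [BN.refl_cancel_left])
      have hy0 : y0 ∈ Finset.univ.filter (fun y => relQ P u y = BN.refl P s) := by simp [h01]
      rw [← Finset.add_sum_erase _ _ hy0, h02, Finset.sum_congr rfl fun y hy => ?_, Finset.sum_const,
        Finset.card_erase_of_mem hy0, hcard, nsmul_eq_mul, Nat.cast_sub hqpos, Nat.cast_one]
      obtain ⟨hy1, hy2⟩ := Finset.mem_erase.1 hy
      rcases hor y hy2 with h | h
      · exact absurd (huniq y ⟨(Finset.mem_filter.1 hy2).2, h⟩) hy1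
      · rw [h]
    · rw [Finset.sum_congr rfl fun y hy => ?_, Finset.sum_const, hcard, nsmul_eq_mul]
      rcases hor y hy with h | h
      · rw [h]
      · exfalso
        have := relQ_trans_up P (s := s) u y v (Finset.mem_filter.1 hy).2 (by rw [h]; omega)
        rw [h] at this
        exact hne this.symm

end Cfsg.Agent.HeckeRank
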