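/-
The number of constituents of the permutation character on the Borel subgroup of a Chevalley group.
-/
import Cfsg.Agent.Lib.HeckeRank.BNModel
import Cfsg.Agent.Lib.Chev.WeylGroup
import Cfsg.Agent.Lib.Chev.Order
import Cfsg.Prelude.Def_ParabolicCharacters

set_option autoImplicit false
set_option linter.unusedSectionVars false

namespace Cfsg.Agent.HeckeRank

open Cfsg Cfsg.Lie Cfsg.Agent.Chev.BNSetup

universe u

variable {D : ChevalleyDatum} {n : ℕ} (M : CoxeterMatrix (Fin n))

/-- The word data of a Coxeter group. -/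
noncomputable def coxData : WordData M.Group (Fin n) where
  s := M.toCoxeterSystem.simple
  len := M.toCoxeterSystem.length
  word w := Classical.choose (M.toCoxeterSystem.exists_isReduced w)
  prod_word w := (Classical.choose_spec (M.toCoxeterSystem.exists_isReduced w)).2.symm
  length_word w := by
    have h := Classical.choose_spec (M.toCoxeterSystem.exists_isReduced w)
    conv_rhs => rw [h.2]
    exact h.1.symm
  len_one := M.toCoxeterSystem.length_one
  len_inv := M.toCoxeterSystem.length_inv
  len_step i w := by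
    rcases M.toCoxeterSystem.length_simple_mul w i with h | h <;> omega
  sq := M.toCoxeterSystem.simple_mul_simple_self
  len_ne i w := M.toCoxeterSystem.length_simple_mul_ne w i

variable {F : Type u} [Field F] [Fintype F]

/-- The coset space of the Borel subgroup is a model at `|F|`. -/
theorem exists_model (hG : Chev.Good D) {tabs simps : List ℕ} (hf : Facts D tabs simps) (hn : D.rank = n)
    (hM : pairOrdersOK tabs D.nroots n (fun i j => M i j) = true) [Fintype M.Group] [DecidableEq M.Group] :
    (coxData M).Good (Fintype.card F : ℂ) ∧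
      Module.finrank ℂ (LinearMap.range ((coxData M).cas (Fintype.card F : ℂ))) =
        Nat.card {χ : IrrCharacter ↥(D.group F) // ∃ φ : ↥(D.group F) → ℂ, IsCharacter ↥(D.group F) φ ∧
          fixedPointCharacter ((D.borelSubgroup F).subgroupOf (D.group F)) = (χ : ↥(D.group F) → ℂ) + φ} := by
  classical
  obtain ⟨φ, hφs, hφk, hφn⟩ := exists_weyl_hom (F := F) hG hf hn M hM
  subst hn
  obtain ⟨P, hB, hN, hS⟩ := exists_bnPair (F := F) hG hf
  let ψ : ↥P.N →* M.Group := φ.comp
    { toFun := fun x => ⟨((x : ↥(D.group F)) : GL D.Idx F), Subgroup.mem_subgroupOf.1 (hN ▸ x.2)⟩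
      map_one' := rfl
      map_mul' := fun _ _ => rfl }
  have hψs : Function.Surjective ψ := fun w => by
    obtain ⟨g, rfl⟩ := hφs w
    exact ⟨⟨⟨g, monomial_le_group hG hf g.2⟩, by rw [hN, Subgroup.mem_subgroupOf]; exact g.2⟩, rfl⟩
  have hψk : ψ.ker = BN.interN P := by
    ext x
    rw [MonoidHom.mem_ker]
    constructor
    · intro hx
      refine Subgroup.mem_subgroupOf.2 ⟨?_, x.2⟩
      rw [hB]
      refine Subgroup.mem_subgroupOf.2 ?_
      have : (⟨((x : ↥(D.group F)) : GL D.Idx F), Subgroup.mem_subgroupOf.1 (hN ▸ x.2)⟩ :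
          D.monomialSubgroup F) ∈ φ.ker := hx
      rw [hφk, Subgroup.mem_subgroupOf] at this
      exact ((borel_inf_monomial (F := F) hG hf).ge this).1
    · intro hx
      have hx' : ((x : ↥(D.group F)) : GL D.Idx F) ∈ D.diagonalSubgroup F := by
        refine (borel_inf_monomial (F := F) hG hf).le ⟨?_, Subgroup.mem_subgroupOf.1 (hN ▸ x.2)⟩
        have := (Subgroup.mem_subgroupOf.1 hx).1
        rw [hB] at this
        exact Subgroup.mem_subgroupOf.1 this
      show _ ∈ φ.ker
      rw [hφk, Subgroup.mem_subgroupOf]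
      exact hx'
  let e : BN.Weyl P ≃* M.Group :=
    (QuotientGroup.quotientMulEquivOfEq hψk.symm).trans (QuotientGroup.quotientKerEquivOfSurjective ψ hψs)
  have he : ∀ x : P.N, e (QuotientGroup.mk x) = ψ x := fun x => rfl
  -- the generators
  have hmem : ∀ i : Fin D.rank, (⟨(data hG F).nn i, monomial_le_group hG hf
      ((data_N hG hf).le (RootBN.Data.nn_mem_N i))⟩ : D.group F) ∈ P.S := fun i => by
    rw [hS]
    exact ⟨i.val, i.2, coe_ne' hG _ _⟩
  let g : Fin D.rank → P.S := fun i => ⟨_, hmem i⟩
  have hgs : Function.Surjective g := by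
    rintro ⟨x, hx⟩
    have hx' := hx
    rw [hS] at hx'
    obtain ⟨i, hi, e'⟩ := hx'
    exact ⟨⟨i, hi⟩, Subtype.ext (Subtype.ext (Units.ext ((coe_ne' hG (D.simple i) 1).trans e'.symm)))⟩
  have heg : ∀ i, e (BN.refl P (g i)) = M.toCoxeterSystem.simple i := fun i => by
    rw [BN.refl, he]
    refine (hφn i _ (coe_ne' hG _ _)).trans ?_
    rw [CoxeterMatrix.toCoxeterSystem_simple]
  have hlen : ∀ w, (coxData M).len w = BN.len P (e.symm w) := by
    intro w
    refine le_antisymm ?_ ?_
    · obtain ⟨l, hl1, hl2⟩ := BN.exists_reduced P (e.symm w)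
      have : w = M.toCoxeterSystem.wordProd (l.map (Function.surjInv hgs)) := by
        rw [CoxeterSystem.wordProd, List.map_map]
        have hfun : (M.toCoxeterSystem.simple ∘ Function.surjInv hgs) = e ∘ BN.refl P := by
          funext s
          simp only [Function.comp_apply, ← heg, Function.surjInv_eq hgs]
        rw [hfun, ← List.map_map, ← map_list_prod, ← BN.word, hl1, MulEquiv.apply_symm_apply]
      rw [← hl2]
      conv_lhs => rw [this]
      exact (M.toCoxeterSystem.length_wordProd_le _).trans (by simp)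
    · obtain ⟨l, hl1, hl2⟩ := M.toCoxeterSystem.exists_isReduced w
      have : e.symm w = BN.word P (l.map g) := by
        rw [MulEquiv.symm_apply_eq, BN.word, map_list_prod, List.map_map, List.map_map, hl2,
          CoxeterSystem.wordProd]
        congr 1
        refine List.map_congr_left fun i _ => ?_
        exact (heg i).symm
      rw [this]
      refine (BN.len_word_le P _).trans ?_
      rw [List.length_map]
      exact le_of_eq (by rw [hl2]; exact hl1.symm)
  -- all minimal double cosets have `|F|` cosets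
  have ax := axioms (F := F) hG hf
  have hq : HasParam P (Fintype.card F) := by
    intro s
    obtain ⟨i, rfl⟩ := hgs s
    have hcard := RootBN.Data.card_cosets ax (q := Fintype.card F)
      (fun j => card_rootSubgroup hG hf (hG.simple_lt j.2)) [i]
    have hinv : (data hG F).inv ((data hG F).wl [i]) = 1 := by
      have h1 := RootBN.Data.inv_refl_mul ax (i := i) [] (by simpa using ax.pos_simp i)
      simpa [RootBN.Data.inv_one] using h1
    rw [hinv, pow_one, RootBN.Data.wl_cons, RootBN.Data.wl_nil, mul_one] at hcard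
    rw [← hcard]
    have hcell : ∀ x : ↥(D.group F), relQ P ((1 : ↥(D.group F)) : _ ⧸ P.B) (x : _ ⧸ P.B) = BN.refl P (g i) ↔
        ((x : ↥(D.group F)) : GL D.Idx F) ∈ (data hG F).cell ((data hG F).refl i) := by
      intro x
      rw [relQ_mk, inv_one, one_mul, nw_refl_cell hG hf, DoubleCoset.mem_doubleCoset]
      constructor
      · intro h
        have h1 := BN.mem_cell_wIdx P x
        rw [h, BN.refl, BN.cell_mk, DoubleCoset.mem_doubleCoset] at h1
        obtain ⟨b, hb, c, hc, rfl⟩ := h1
        rw [hB, SetLike.mem_coe, Subgroup.mem_subgroupOf] at hb hc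
        exact ⟨(b : GL D.Idx F), hb, (c : GL D.Idx F), hc, rfl⟩
      · rintro ⟨b, hb, c, hc, hx⟩
        refine BN.wIdx_eq P ?_
        rw [BN.refl, BN.cell_mk, DoubleCoset.mem_doubleCoset]
        exact ⟨⟨b, borel_le_group hG hf hb⟩, by rw [hB]; exact Subgroup.mem_subgroupOf.2 hb,
          ⟨c, borel_le_group hG hf hc⟩, by rw [hB]; exact Subgroup.mem_subgroupOf.2 hc, Subtype.ext hx⟩
    let f : {y : ↥(D.group F) ⧸ P.B // relQ P ((1 : ↥(D.group F)) : _ ⧸ P.B) y = BN.refl P (g i)} →
        (data hG F).cosets ((data hG F).refl i) := fun y =>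
      ⟨Quotient.liftOn' y.1 (fun x : ↥(D.group F) => (((x : GL D.Idx F)) : GL D.Idx F ⧸ (data hG F).B))
        (fun a b h => QuotientGroup.eq.2 (by
          have h' := QuotientGroup.leftRel_apply.1 h
          rw [hB, Subgroup.mem_subgroupOf] at h'
          rw [data_B hG hf]
          exact h')), by
        obtain ⟨⟨x⟩, hy⟩ := y
        exact RootBN.Data.mem_cosets.2 ((hcell x).1 hy)⟩
    refine Nat.card_congr (Equiv.ofBijective f ⟨?_, ?_⟩)
    · rintro ⟨⟨a⟩, ha⟩ ⟨⟨b⟩, hb⟩ hab
      refine Subtype.ext (QuotientGroup.eq.2 ?_)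
      rw [hB, Subgroup.mem_subgroupOf, ← data_B hG hf]
      exact QuotientGroup.eq.1 (congrArg Subtype.val hab)
    · rintro ⟨y, hy⟩
      obtain ⟨z, rfl⟩ := QuotientGroup.mk_surjective y
      have hz := RootBN.Data.mem_cosets.1 hy
      have hzG : z ∈ D.group F := by
        have := RootBN.Data.cell_subset_grp ax [i] (by simpa using hz)
        rwa [data_grp hG] at this
      exact ⟨⟨((⟨z, hzG⟩ : D.group F) : _ ⧸ P.B), (hcell ⟨z, hzG⟩).2 hz⟩, Subtype.ext rfl⟩
  haveI : Fintype ↥(D.group F) := Fintype.ofFinite _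
  haveI : Fintype (↥(D.group F) ⧸ P.B) := Fintype.ofFinite _
  have hm := bnModel (P := P) e g hq (coxData M) (fun i => (heg i).symm) hlen Fintype.card_pos
  refine ⟨good hm Fintype.card_pos, ?_⟩
  rw [finrank_cas hm Fintype.card_pos, ← hB]
  refine Nat.card_congr (Equiv.subtypeEquivRight fun χ => ?_)
  have hpi : (fixedPointCharacter P.B : ↥(D.group F) → ℂ) = pchar (X := ↥(D.group F) ⧸ P.B) := rfl
  rw [hpi]
  obtain ⟨m, hm1, hm2⟩ := Char.IsCharacter.exists_decomp
    (show IsCharacter _ (pchar (G := ↥(D.group F)) (X := ↥(D.group F) ⧸ P.B)) from Char.isCharacter_fixedBy _)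
  rw [hm2, Nat.cast_ne_zero]
  constructor
  · intro h
    refine ⟨∑ ψ : IrrCharacter ↥(D.group F), ((m ψ - if ψ = χ then 1 else 0 : ℕ) : ℂ) • ψ.1,
      Char.isCharacter_sum_nat_smul _, ?_⟩
    rw [hm1]
    funext x
    simp only [Pi.add_apply, Finset.sum_apply, Pi.smul_apply, smul_eq_mul]
    rw [← Finset.add_sum_erase _ _ (Finset.mem_univ χ),
      ← Finset.add_sum_erase _ (fun ψ => ((m ψ - if ψ = χ then 1 else 0 : ℕ) : ℂ) * ψ.1 x) (Finset.mem_univ χ),
      if_pos rfl, Nat.cast_sub (Nat.one_le_iff_ne_zero.2 h)]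
    rw [Finset.sum_congr rfl fun ψ hψ => ?_]
    rotate_left
    · exact (fun ψ => (((m ψ - if ψ = χ then 1 else 0 : ℕ)) : ℂ) * ψ.1 x)
    · simp [(Finset.mem_erase.1 hψ).1]
    push_cast
    ring
  · rintro ⟨φ', hφ', heq⟩ h0
    have := hm2 χ
    rw [h0, heq, Char.classInner_add_left, Char.classInner_irr_self χ.2] at this
    obtain ⟨k, hk⟩ := Char.IsCharacter.exists_nat_classInner hφ' (Char.irr_isCharacter χ)
    rw [hk, Nat.cast_zero] at this
    norm_cast at this
    omega

/-- The number of constituents is the number of classes of the Weyl group. -/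
theorem card_constituents (hG : Chev.Good D) {tabs simps : List ℕ} (hf : Facts D tabs simps) (hn : D.rank = n)
    (hM : pairOrdersOK tabs D.nroots n (fun i j => M i j) = true) :
    Nat.card {χ : IrrCharacter ↥(D.group F) // ∃ φ : ↥(D.group F) → ℂ, IsCharacter ↥(D.group F) φ ∧
      fixedPointCharacter ((D.borelSubgroup F).subgroupOf (D.group F)) = (χ : ↥(D.group F) → ℂ) + φ} =
      Nat.card (ConjClasses M.Group) := by
  classical
  obtain ⟨φ, hφs, -, -⟩ := exists_weyl_hom (F := F) hG hf hn M hM
  haveI : Finite M.Group := Finite.of_surjective φ hφs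
  haveI : Fintype M.Group := Fintype.ofFinite _
  have hgood : ∀ t : ℂ, (coxData M).Good t := by
    refine (coxData M).good_of_infinite (Q := (fun p : ℕ => (p : ℂ)) '' {p | p.Prime})
      ((Nat.infinite_setOf_prime).image Nat.cast_injective.injOn) ?_
    rintro _ ⟨p, hp, rfl⟩
    haveI : Fact p.Prime := ⟨hp⟩
    have h := (exists_model M (F := ZMod p) hG hf hn hM).1
    rwa [ZMod.card] at h
  rw [← (exists_model M (F := F) hG hf hn hM).2, ← (coxData M).finrank_cas_one hgood, ← Complex.ofReal_one,
    ← Complex.ofReal_natCast]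
  exact (coxData M).finrank_cas_eq hgood (Nat.cast_pos.2 Fintype.card_pos) one_pos

end Cfsg.Agent.HeckeRank
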